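import Groth.Agent.AlgGrp.K719.ThirdIso
import Groth.Agent.AlgGrp.K414.RosQ
import Groth.Agent.Sga3.H821.ChevDesc
import Groth.Agent.S3026
import Groth.Agent.S3293

/-!
# Products of commuting subgroups
-/

set_option autoImplicit false
universe u
open CategoryTheory Limits MonoidalCategory CartesianMonoidalCategory MonObj GrpObj AlgebraicGeometry
open Groth.Agent Groth.Agent.Sga3.H739.Fpqc

namespace K719.GugKit

theorem comp_mulMap {S : Scheme.{u}} {A B G : Over S} [GrpObj G] (a : A ⟶ G) (b : B ⟶ G) {T : Over S}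
    (z : T ⟶ A ⊗ B) : z ≫ (a ⊗ₘ b) ≫ μ[G] = ((z ≫ fst A B) ≫ a) * ((z ≫ snd A B) ≫ b) := by
  rw [K395.Pts.mul_eq, MonObj.comp_mul, MonObj.comp_mul, tensorHom_fst, tensorHom_snd]
  simp only [Category.assoc]

/-- The product map of two commuting homomorphisms is a homomorphism. -/
theorem isMonHom_mulMap {S : Scheme.{u}} {A B G : Over S} [GrpObj A] [GrpObj B] [GrpObj G] (a : A ⟶ G)
    (b : B ⟶ G) [IsMonHom a] [IsMonHom b]
    (hc : ∀ {T : Over S} (x : T ⟶ A) (y : T ⟶ B), (x ≫ a) * (y ≫ b) = (y ≫ b) * (x ≫ a)) :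
    IsMonHom ((a ⊗ₘ b) ≫ μ[G]) := by
  refine K395.Pts.isMonHom_of_pts _ fun T x y => ?_
  rw [comp_mulMap, comp_mulMap, comp_mulMap, MonObj.mul_comp, MonObj.mul_comp, MonObj.mul_comp, MonObj.mul_comp]
  have h := hc (y ≫ fst A B) (x ≫ snd A B)
  rw [_root_.mul_assoc, ← _root_.mul_assoc ((y ≫ fst A B) ≫ a), h]
  simp only [_root_.mul_assoc]

section field

variable {k : Type u} [Field k]

/-- Surjective homomorphisms onto reduced groups are covers. -/
theorem cov_of_surjective {G Q : Over (Spec (CommRingCat.of k))} [GrpObj G] [GrpObj Q] [QuasiCompact G.hom]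
    [LocallyOfFiniteType Q.hom] [IsReduced Q.left] (q : G ⟶ Q) [IsMonHom q] [Surjective q.left] : Cov q := by
  obtain ⟨D, _, r, i, hr, hi, hri, hc, hcl⟩ := K414.Kit.exists_image q
  have hs : Surjective i.left := by
    have : Surjective (r ≫ i).left := by rw [hri]; infer_instance
    rw [Over.comp_left] at this
    exact Surjective.of_comp r.left i.left
  have h1 : IsIso i.left := isIso_of_isClosedImmersion_of_surjective i.left
  have h2 : IsIso i := by
    have : IsIso ((Over.forget _).map i) := h1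
    exact isIso_of_reflects_iso i (Over.forget _)
  rw [← hri]
  exact hc.comp (Cov.of_isIso i)

/-- `N × G_ant ⟶ G` is surjective. -/
theorem surjective_NM {G N A M : Over (Spec (CommRingCat.of k))} [GrpObj G] [GrpObj N] [GrpObj A] [GrpObj M]
    [LocallyOfFiniteType G.hom] [QuasiCompact G.hom] [ConnectedSpace G.left] (i : N ⟶ G) [IsProper A.hom]
    (q : G ⟶ A) [IsMonHom q] [Surjective q.left] [Flat q.left] (hq : AlgGrp.IsKernel i q) (j : M ⟶ G)
    (hMmax : ∀ (M₁ : Over (Spec (CommRingCat.of k))) [GrpObj M₁] [LocallyOfFiniteType M₁.hom] [QuasiCompact M₁.hom] (j₁ : M₁ ⟶ G) [IsMonHom j₁] [IsClosedImmersion j₁.left],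
      Function.Bijective ((Scheme.ΓSpecIso (CommRingCat.of k)).inv ≫ M₁.hom.appTop).hom → ∃ g₁ : M₁ ⟶ M, g₁ ≫ j = j₁) :
    Surjective ((i ⊗ₘ j) ≫ μ[G]).left := by
  obtain ⟨M₁, _, j₁, h1, h2, h3, h4, h5, h6⟩ := K414.RosQ.exists_antiAffine_surjective q
  obtain ⟨g₁, hg₁⟩ := hMmax M₁ j₁ (K398.AntiAff.bijective_of_isIso h5)
  refine K414.RosQ.surjective_mul i q hq j ?_
  have : Surjective (g₁.left ≫ (j ≫ q).left) := by
    rw [← Over.comp_left, ← Category.assoc, hg₁]; exact h6
  exact Surjective.of_comp g₁.left _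

/-- Products of smooth connected groups are connected. -/
theorem connectedSpace_tensor (G H : Over (Spec (CommRingCat.of k))) [GrpObj G] [ConnectedSpace G.left]
    [LocallyOfFiniteType G.hom] [ConnectedSpace H.left] : ConnectedSpace (G ⊗ H).left := by
  have hgc := Sga3.H821.ChevDesc.geometricallyConnected G
  exact inferInstanceAs (ConnectedSpace ↥(pullback G.hom H.hom))

/-- `S = T · M` with `M / T'` proper, `T' ⊆ T`, `T` central: `S / T` is proper. -/
theorem exists_quot {S T M T' A' : Over (Spec (CommRingCat.of k))} [GrpObj S] [GrpObj T] [GrpObj M] [GrpObj A']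
    [Smooth S.hom] [QuasiCompact S.hom] [ConnectedSpace S.left] (tS : T ⟶ S) [IsMonHom tS]
    [IsClosedImmersion tS.left]
    (hcT : ∀ {Y : Over (Spec (CommRingCat.of k))} (x : Y ⟶ T) (g : Y ⟶ S), (x ≫ tS) * g = g * (x ≫ tS))
    (mS : M ⟶ S) [IsMonHom mS] (hS : Surjective ((tS ⊗ₘ mS) ≫ μ[S]).left)
    (iM : T' ⟶ M) (qM : M ⟶ A') [IsMonHom qM] (hqM : Cov qM) (hkM : AlgGrp.IsKernel iM qM) [IsProper A'.hom]
    (f : T' ⟶ T) (hf : f ≫ tS = iM ≫ mS) :
    ∃ (B : Over (Spec (CommRingCat.of k))) (_ : GrpObj B) (qB : S ⟶ B), IsMonHom qB ∧ Surjective qB.left ∧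
      Flat qB.left ∧ AlgGrp.IsKernel tS qB ∧ IsProper B.hom ∧ Smooth B.hom ∧ ConnectedSpace ↥B.left := by
  have hn : AlgGrp.IsNormalHom tS := fun Y g n => ⟨n, by rw [← hcT n g, _root_.mul_assoc, mul_inv_cancel,
    _root_.mul_one]⟩
  obtain ⟨B, _, qB, h1, h2, h3, h4, h5, h6, h7, h8, h9⟩ := K414.Kit.exists_quot tS hn
  have hBs : Smooth B.hom := h9 inferInstance
  have hBc : ConnectedSpace B.left := K414.Kit.connectedSpace_of_surjective qB
  have e1 : tS ≫ qB = 1 := by
    have := K395.Pts.comp_eq_one h4 (𝟙 T)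
    rwa [Category.id_comp] at this
  -- `M ⟶ B` is surjective
  have hMB : Surjective (mS ≫ qB).left := by
    have e2 : ((tS ⊗ₘ mS) ≫ μ[S]) ≫ qB = snd T M ≫ mS ≫ qB := by
      have := comp_mulMap tS mS (𝟙 (T ⊗ M))
      rw [Category.id_comp] at this
      rw [this, MonObj.mul_comp, Category.assoc, Category.assoc, Category.assoc, Category.assoc, e1,
        MonObj.comp_one, MonObj.comp_one, _root_.one_mul, Category.id_comp]
    have h10 : Surjective (((tS ⊗ₘ mS) ≫ μ[S]).left ≫ qB.left) := inferInstance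
    rw [← Over.comp_left, e2, Over.comp_left] at h10
    exact Surjective.of_comp (snd T M).left _
  obtain ⟨ψ, hψ, hψ'⟩ := ThirdIso.exists_desc iM qM hqM hkM (mS ≫ qB)
    (by rw [← Category.assoc, ← hf, Category.assoc, e1, MonObj.comp_one])
  have hψs : Surjective ψ.left := by
    have h10 : Surjective (qM.left ≫ ψ.left) := by rw [← Over.comp_left, hψ']; exact hMB
    exact Surjective.of_comp qM.left _
  have hBp : IsProper B.hom := K414.Kit.isProper_target ψ
  exact ⟨B, inferInstance, qB, h1, h3, h2, h4, hBp, hBs, hBc⟩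

end field

end K719.GugKit
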