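import Groth.Agent.AlgGrp.K719.ThirdIso
import Groth.Agent.AlgGrp.K719.GugKit
import Groth.Agent.AlgGrp.K414.Kit
import Groth.Agent.GrpSch.K267.DeligneSch
import Groth.Agent.S0084
import Groth.Agent.Sga3.H794.ChevKer
import Groth.Agent.Sga3.H821.ExtConn

/-!
# Splitting commutative extensions by finite groups up to isogeny

`0 ⟶ S ⟶ G ⟶ Q ⟶ 0` commutative with `Q` finite killed by `n` and `[n]` a covering with finite kernel on `S`:
there is a finite closed subgroup `A` of `G` such that `A × S ⟶ G` is a covering with finite kernel.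
-/

set_option autoImplicit false
universe u
open CategoryTheory Limits MonoidalCategory CartesianMonoidalCategory MonObj GrpObj AlgebraicGeometry
open Groth.Agent Groth.Agent.Sga3.H739.Fpqc

namespace K719.PhiIsog

variable {k : Type u} [Field k]

theorem isCommMonObj_of_mono {S : Scheme.{u}} {R Q : Over S} [GrpObj R] [GrpObj Q] [IsCommMonObj Q] (u : R ⟶ Q)
    [IsMonHom u] [Mono u] : IsCommMonObj R := by
  refine ⟨?_⟩
  rw [← cancel_mono u, Category.assoc, IsMonHom.mul_hom, ← Category.assoc,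
    ← BraidedCategory.braiding_naturality, Category.assoc, IsCommMonObj.mul_comm]

/-- Quotients of commutative groups are commutative. -/
theorem isCommMonObj_of_cov {S : Scheme.{u}} {G Q : Over S} [GrpObj G] [IsCommMonObj G] [GrpObj Q] (q : G ⟶ Q)
    [IsMonHom q] (hq : Cov q) : IsCommMonObj Q := by
  refine ⟨(hq.tensorHom hq).cancel ?_⟩
  rw [← Category.assoc, BraidedCategory.braiding_naturality, Category.assoc, ← IsMonHom.mul_hom,
    ← Category.assoc, IsCommMonObj.mul_comm]

/-- Finite commutative groups are killed by a positive integer. -/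
theorem exists_pow_eq_one (I : Over (Spec (CommRingCat.of k))) [GrpObj I] [IsCommMonObj I] [IsFinite I.hom] :
    ∃ n : ℕ, 0 < n ∧ (𝟙 I) ^ n = 1 := by
  let x : Spec (CommRingCat.of k) := IsLocalRing.closedPoint k
  refine ⟨Scheme.Hom.finrank I.hom x, ?_, K267.DeligneSch.id_pow_eq_one I _ fun s => ?_⟩
  · have hx : x = I.hom (η[I].left x) := Subsingleton.elim _ _
    rw [hx]
    exact Scheme.Hom.one_le_finrank_map I.hom _
  · rw [Subsingleton.elim s x]

/-- A homomorphism of finite type with finite kernel to a group of finite type is finite. -/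
theorem isFinite_of_ker {A Q N : Over (Spec (CommRingCat.of k))} [GrpObj A] [GrpObj Q]
    [LocallyOfFiniteType Q.hom] [QuasiCompact A.hom] (u : A ⟶ Q) [IsMonHom u] (i : N ⟶ A)
    (hi : AlgGrp.IsKernel i u) [IsFinite N.hom] : IsFinite u.left := by
  have : MorphismProperty.DescendsAlong @IsFinite (@Surjective ⊓ @Flat ⊓ @QuasiCompact : MorphismProperty Scheme.{u}) :=
    S0084.result
  have hresp : MorphismProperty.RespectsIso (@IsFinite : MorphismProperty Scheme.{u}) :=
    MorphismProperty.IsStableUnderBaseChange.respectsIso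
  obtain ⟨D, _, r, c, hr, hc, hrc, hcov, hcl⟩ := K414.Kit.exists_image u
  have hmc : Mono c := K414.Kit.mono_of_closed c
  have hk : AlgGrp.IsKernel i r := by
    have := K395.Pts.mono_of_isKernel hi
    refine K395.Pts.isKernel_of_pts (fun T n => ?_) fun T x hx => ?_
    · rw [← cancel_mono c, Category.assoc, hrc, MonObj.one_comp]
      exact K395.Pts.comp_eq_one hi n
    · refine K395.Pts.exists_of_comp_eq_one hi x ?_
      rw [← hrc, ← Category.assoc, hx, MonObj.one_comp]
  have h1 := hcov.flat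
  have h2 := hcov.surj
  have h3 := hcov.qc
  have h4 : IsFinite r.left := Sga3.H821.ExtConn.of_ker r @IsFinite
    (Sga3.H821.ExtConn.kerObj_of r @IsFinite i hk inferInstance)
  rw [← hrc, Over.comp_left]
  infer_instance

/-- Covers through which a monomorphism factors are isomorphisms. -/
theorem cov_of_local {A G : Over (Spec (CommRingCat.of k))} [GrpObj A] [GrpObj G]
    [LocallyOfFiniteType G.hom] [QuasiCompact A.hom] (u : A ⟶ G) [IsMonHom u]
    (h : ∃ (T : Over (Spec (CommRingCat.of k))) (t : T ⟶ G) (a : T ⟶ A), Cov t ∧ a ≫ u = t) : Cov u := by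
  obtain ⟨D, _, r, c, hr, hc, hrc, hcov, hcl⟩ := K414.Kit.exists_image u
  have hmc : Mono c := K414.Kit.mono_of_closed c
  obtain ⟨T, t, a, ht, ha⟩ := h
  obtain ⟨l, hl⟩ := ht.exists_lift_of_mono c (𝟙 G) (a ≫ r) (by rw [Category.assoc, hrc, ha, Category.comp_id])
  have h1 : IsIso c := by
    refine ⟨l, ?_, hl⟩
    rw [← cancel_mono c, Category.assoc, hl, Category.comp_id, Category.id_comp]
  rw [← hrc]
  exact hcov.comp (Cov.of_isIso c)

theorem comp_id_pow {G X : Over (Spec (CommRingCat.of k))} [GrpObj G] (x : X ⟶ G) (n : ℕ) :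
    x ≫ (𝟙 G) ^ n = x ^ n := by
  rw [MonObj.comp_pow, Category.comp_id]

/-- The isogeny `A × S ⟶ G`. -/
theorem main {G S Q : Over (Spec (CommRingCat.of k))} [GrpObj G] [GrpObj S] [GrpObj Q] [IsCommMonObj G]
    [LocallyOfFiniteType G.hom] [QuasiCompact G.hom] (j : S ⟶ G) [IsMonHom j]
    (q : G ⟶ Q) [IsMonHom q] (hq : Cov q) (hjq : AlgGrp.IsKernel j q) [IsFinite Q.hom] (n : ℕ)
    (hn : (𝟙 Q) ^ n = 1) [IsSeparated S.hom] [LocallyOfFiniteType S.hom] [QuasiCompact S.hom]
    (hfin : IsFinite ((𝟙 S : S ⟶ S) ^ n).left)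
    (hcov : Cov ((𝟙 S : S ⟶ S) ^ n)) :
    ∃ (A : Over (Spec (CommRingCat.of k))) (_ : GrpObj A) (a : A ⟶ G), IsMonHom a ∧ IsClosedImmersion a.left ∧
      IsFinite A.hom ∧ Cov (a ≫ q) ∧ IsMonHom ((a ⊗ₘ j) ≫ μ[G]) ∧ Cov ((a ⊗ₘ j) ≫ μ[G]) ∧
      ∀ (N : Over (Spec (CommRingCat.of k))) (i : N ⟶ A ⊗ S), AlgGrp.IsKernel i ((a ⊗ₘ j) ≫ μ[G]) →
        IsFinite N.hom := by
  have hmj : Mono j := K395.Pts.mono_of_isKernel hjq
  have hcomm : IsMonHom ((𝟙 G : G ⟶ G) ^ n) := inferInstance
  obtain ⟨φ, hφ⟩ := K395.Pts.exists_of_comp_eq_one hjq ((𝟙 G : G ⟶ G) ^ n) (by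
    rw [MonObj.pow_comp, Category.id_comp, ← comp_id_pow, hn, MonObj.comp_one])
  have hφm : IsMonHom φ := ThirdIso.isMonHom_of_mono φ j _ hφ
  have hjφ : j ≫ φ = (𝟙 S : S ⟶ S) ^ n := by
    rw [← cancel_mono j, Category.assoc, hφ, comp_id_pow, MonObj.pow_comp, Category.id_comp]
  obtain ⟨A, _, a, ha, hacl, hak, -⟩ := K414.Kit.exists_ker φ
  have hma : Mono a := K414.Kit.mono_of_closed a
  have hAqc : QuasiCompact A.hom := K414.Kit.quasiCompact_of_closed a
  have hAft : LocallyOfFiniteType A.hom := K414.Kit.locallyOfFiniteType_of_closed a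
  -- the kernel of `[n]` on `S`
  have hSm : IsMonHom ((𝟙 S : S ⟶ S) ^ n) := by rw [← hjφ]; infer_instance
  obtain ⟨B, _, b, hb, hbcl, hbk, -⟩ := K414.Kit.exists_ker ((𝟙 S : S ⟶ S) ^ n)
  have hmb : Mono b := K414.Kit.mono_of_closed b
  have hBfin : IsFinite B.hom := by
    have h1 := Functor.map_isPullback (Over.forget _) hbk
    have h2 : IsFinite (toUnit B).left := MorphismProperty.of_isPullback h1 hfin
    have h3 : (toUnit B).left = B.hom := by simp
    rwa [h3] at h2
  -- elements of the kernel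
  have hker : ∀ {X : Over (Spec (CommRingCat.of k))} (x : X ⟶ A) (s : X ⟶ S), x ≫ a = s ≫ j →
      ∃ y : X ⟶ B, y ≫ b = s := by
    intro X x s hs
    refine K395.Pts.exists_of_comp_eq_one hbk s ?_
    rw [← hjφ, ← Category.assoc, ← hs]
    exact K395.Pts.comp_eq_one hak x
  obtain ⟨c, hc⟩ := K395.Pts.exists_of_comp_eq_one hak (b ≫ j) (by
    rw [Category.assoc, hjφ]
    have := K395.Pts.comp_eq_one hbk (𝟙 B)
    rwa [Category.id_comp] at this)
  have hmc : Mono c := by
    have : Mono (c ≫ a) := by rw [hc]; infer_instance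
    exact mono_of_mono c a
  have hck : AlgGrp.IsKernel c (a ≫ q) := by
    refine K395.Pts.isKernel_of_pts (fun T t => ?_) fun T x hx => ?_
    · rw [Category.assoc, ← Category.assoc c, hc, Category.assoc b, ← Category.assoc]
      exact K395.Pts.comp_eq_one hjq (t ≫ b)
    · obtain ⟨s, hs⟩ := K395.Pts.exists_of_comp_eq_one hjq (x ≫ a) (by rw [Category.assoc, hx])
      obtain ⟨y, hy⟩ := hker x s hs.symm
      refine ⟨y, ?_⟩
      rw [← cancel_mono a, Category.assoc, hc, ← Category.assoc, hy, hs]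
  have hAfin : IsFinite A.hom := by
    have h1 : IsFinite (a ≫ q).left := isFinite_of_ker (a ≫ q) c hck
    rw [← Over.w (a ≫ q)]
    infer_instance
  have hfm : IsMonHom ((a ⊗ₘ j) ≫ μ[G]) := inferInstance
  have hloc : ∀ {X : Over (Spec (CommRingCat.of k))} (g : X ⟶ G), ∃ (T : Over (Spec (CommRingCat.of k))) (t : T ⟶ X)
      (x : T ⟶ A) (s : T ⟶ S), Cov t ∧ (x ≫ a) * (s ≫ j) = t ≫ g := by
    intro X g
    obtain ⟨T, t, s, ht, hs⟩ := hcov.exists_local (g ≫ φ)
    obtain ⟨x, hx⟩ := K395.Pts.exists_of_comp_eq_one hak ((t ≫ g) * (s ≫ j)⁻¹) (by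
      rw [MonObj.mul_comp, GrpObj.inv_comp, Category.assoc, Category.assoc, hjφ, hs, mul_inv_cancel])
    exact ⟨T, t, x, s, ht, by rw [hx, inv_mul_cancel_right]⟩
  have hASq : QuasiCompact (A ⊗ S).hom := inferInstanceAs (QuasiCompact (pullback.fst A.hom S.hom ≫ A.hom))
  refine ⟨A, inferInstance, a, ha, hacl, hAfin, ?_, hfm, ?_, ?_⟩
  · obtain ⟨T, t, x, s, ht, h⟩ := hloc (𝟙 G)
    refine cov_of_local _ ⟨T, t ≫ q, x, ht.comp hq, ?_⟩
    rw [Category.comp_id] at h
    rw [← h, MonObj.mul_comp, Category.assoc, K395.Pts.comp_eq_one hjq s, _root_.mul_one]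
  · obtain ⟨T, t, x, s, ht, h⟩ := hloc (𝟙 G)
    refine cov_of_local _ ⟨T, t, lift x s, ht, ?_⟩
    rw [GugKit.comp_mulMap, lift_fst, lift_snd, h, Category.comp_id]
  · intro N i hi
    have hmi : Mono i := K395.Pts.mono_of_isKernel hi
    have h0 : ((i ≫ fst A S) ≫ a) * ((i ≫ snd A S) ≫ j) = 1 := by
      rw [← GugKit.comp_mulMap]
      have := K395.Pts.comp_eq_one hi (𝟙 N)
      rwa [Category.id_comp] at this
    have h1 : (i ≫ fst A S)⁻¹ ≫ a = (i ≫ snd A S) ≫ j := by
      rw [GrpObj.inv_comp]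
      exact inv_eq_of_mul_eq_one_right h0
    obtain ⟨y, hy⟩ := hker _ _ h1
    have hGs : IsSeparated G.hom := Books.AntiAffine.isSeparated_hom G
    have hic : IsClosedImmersion i.left := Sga3.H794.ChevKer.isClosedImmersion_ker i _ hi
    have h2 : IsFinite (snd A S).left := by rw [Over.snd_left]; infer_instance
    have h3 : IsFinite (i ≫ snd A S).left := by rw [Over.comp_left]; infer_instance
    rw [← hy, Over.comp_left] at h3
    have h4 : IsFinite y.left := IsFinite.of_comp y.left b.left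
    rw [← Over.w y]
    infer_instance

end K719.PhiIsog
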