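import Groth.Agent.AlgGrp.K395.CovKit
import Groth.Agent.AlgGrp.K395.Pts

/-!
# Quotients of quotients, normal subgroups of products

* `exists_third`: the third isomorphism theorem for covering homomorphisms;
* `isNormalHom_of_cov_mul`: a normal subgroup of `N` is normal in `G` when `G = N · M` with `M` central.
-/

set_option autoImplicit false
universe u
open CategoryTheory Limits MonoidalCategory CartesianMonoidalCategory MonObj GrpObj AlgebraicGeometry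
open Groth.Agent Groth.Agent.Sga3.H739.Fpqc

namespace K719.ThirdIso

variable {S : Scheme.{u}}

/-- A morphism whose composite with a covering homomorphism is a homomorphism is a homomorphism. -/
theorem isMonHom_of_cov {G Q H : Over S} [GrpObj G] [GrpObj Q] [GrpObj H]
    (q : G ⟶ Q) [IsMonHom q] (hq : Cov q) (ψ : Q ⟶ H) (φ : G ⟶ H) [IsMonHom φ] (hψ : q ≫ ψ = φ) :
    IsMonHom ψ := by
  refine K395.Pts.isMonHom_of_pts ψ fun T x y => ?_
  obtain ⟨T₁, t₁, x', ht₁, hx'⟩ := hq.exists_local x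
  obtain ⟨T₂, t₂, y', ht₂, hy'⟩ := hq.exists_local (t₁ ≫ y)
  refine (ht₂.comp ht₁).cancel ?_
  have e1 : ((t₂ ≫ x') * y') ≫ q = (t₂ ≫ t₁) ≫ (x * y) := by
    rw [MonObj.mul_comp, Category.assoc, hx', hy', MonObj.comp_mul, Category.assoc, Category.assoc]
  have e2 : (t₂ ≫ t₁) ≫ (x * y) ≫ ψ = ((t₂ ≫ x') * y') ≫ φ := by
    rw [← hψ, ← Category.assoc _ q, e1, Category.assoc, Category.assoc, Category.assoc]
  have e3 : (t₂ ≫ t₁) ≫ x ≫ ψ = (t₂ ≫ x') ≫ φ := by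
    rw [← hψ, Category.assoc, Category.assoc, ← Category.assoc x' q, hx', Category.assoc]
  have e4 : (t₂ ≫ t₁) ≫ y ≫ ψ = y' ≫ φ := by
    rw [← hψ, ← Category.assoc y' q, hy', Category.assoc, Category.assoc, Category.assoc]
  rw [e2, MonObj.comp_mul, e3, e4, MonObj.mul_comp]

/-- A homomorphism killing the kernel of a cover factors through it. -/
theorem exists_desc {N G Q H : Over S} [GrpObj G] [GrpObj Q] [GrpObj H]
    (i : N ⟶ G) (q : G ⟶ Q) [IsMonHom q] (hq : Cov q) (hK : AlgGrp.IsKernel i q) (φ : G ⟶ H)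
    [IsMonHom φ] (hφ : i ≫ φ = 1) : ∃ ψ : Q ⟶ H, IsMonHom ψ ∧ q ≫ ψ = φ := by
  obtain ⟨ψ, hψ⟩ := hq.exists_desc φ (fun x y hxy => by
    obtain ⟨n, hn⟩ := K395.Pts.exists_of_comp_eq hK x y hxy
    rw [hn, MonObj.mul_comp, Category.assoc, hφ, MonObj.comp_one, _root_.one_mul])
  exact ⟨ψ, isMonHom_of_cov q hq ψ φ hψ, hψ⟩

/-- A lift of a homomorphism through a monomorphic homomorphism is a homomorphism. -/
theorem isMonHom_of_mono {A B C : Over S} [GrpObj A] [GrpObj B] [GrpObj C] (f : A ⟶ B)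
    (i : B ⟶ C) [IsMonHom i] [Mono i] (g : A ⟶ C) [IsMonHom g] (h : f ≫ i = g) : IsMonHom f := by
  refine K395.Pts.isMonHom_of_pts f fun T a b => ?_
  have h1 : ((a ≫ f) * (b ≫ f)) ≫ i = (a ≫ g) * (b ≫ g) := by
    rw [MonObj.mul_comp, Category.assoc, Category.assoc, h]
  rw [← cancel_mono i, h1, Category.assoc, h, MonObj.mul_comp]

/-- **Third isomorphism theorem.** -/
theorem exists_third {G N A H' C Q' : Over S} [GrpObj G] [GrpObj N] [GrpObj A] [GrpObj H'] [GrpObj C]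
    [GrpObj Q'] (i : N ⟶ G) [IsMonHom i] (q : G ⟶ A) [IsMonHom q] (hq : Cov q) (hiq : AlgGrp.IsKernel i q)
    (h' : H' ⟶ N) [IsMonHom h'] (c : N ⟶ C) [IsMonHom c] (hc : Cov c) (hhc : AlgGrp.IsKernel h' c)
    (q' : G ⟶ Q') [IsMonHom q'] (hq' : Cov q') (hk' : AlgGrp.IsKernel (h' ≫ i) q') :
    ∃ (γ : C ⟶ Q') (ψ : Q' ⟶ A), IsMonHom γ ∧ IsMonHom ψ ∧ Cov ψ ∧ Mono γ ∧ AlgGrp.IsKernel γ ψ ∧
      c ≫ γ = i ≫ q' ∧ q' ≫ ψ = q := by
  have h1 : h' ≫ i ≫ q' = 1 := by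
    rw [← Category.assoc]
    have := K395.Pts.comp_eq_one hk' (𝟙 H')
    rwa [Category.id_comp] at this
  have h2 : (h' ≫ i) ≫ q = 1 := by
    rw [Category.assoc, ← Category.assoc]
    exact K395.Pts.comp_eq_one hiq h'
  obtain ⟨γ, hγ, hγ'⟩ := exists_desc h' c hc hhc (i ≫ q') h1
  obtain ⟨ψ, hψ, hψ'⟩ := exists_desc (h' ≫ i) q' hq' hk' q h2
  have hcγ : ∀ {T : Over S} (x : T ⟶ C), x ≫ γ = 1 → x = 1 := by
    intro T x hx
    obtain ⟨T', t, n, ht, hn⟩ := hc.exists_local x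
    refine K395.CovKit.eq_one_of_cov ht x ?_
    have e1 : (n ≫ i) ≫ q' = 1 := by
      rw [Category.assoc, ← hγ', ← Category.assoc, hn, Category.assoc, hx, MonObj.comp_one]
    obtain ⟨m, hm⟩ := K395.Pts.exists_of_comp_eq_one hk' (n ≫ i) e1
    have hmono : Mono i := K395.Pts.mono_of_isKernel hiq
    have e2 : m ≫ h' = n := by
      rw [← cancel_mono i, Category.assoc, hm]
    rw [← hn, ← e2]
    exact K395.Pts.comp_eq_one hhc m
  have hmγ : Mono γ := by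
    refine ⟨fun x y hxy => ?_⟩
    have : x * y⁻¹ = 1 := hcγ _ (by rw [MonObj.mul_comp, GrpObj.inv_comp, hxy, mul_inv_cancel])
    exact mul_inv_eq_one.1 this
  have hψc : Cov ψ := hq'.of_comp (by rw [hψ']; exact hq)
  refine ⟨γ, ψ, hγ, hψ, hψc, hmγ, K395.Pts.isKernel_of_pts ?_ ?_, hγ', hψ'⟩
  · intro T x
    obtain ⟨T', t, n, ht, hn⟩ := hc.exists_local x
    refine K395.CovKit.eq_one_of_cov ht _ ?_
    rw [Category.assoc, ← Category.assoc t, ← hn, Category.assoc, ← Category.assoc c, hγ', Category.assoc,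
      hψ', ← Category.assoc]
    exact K395.Pts.comp_eq_one hiq n
  · intro T y hy
    obtain ⟨T', t, g, ht, hg⟩ := hq'.exists_local y
    have e1 : g ≫ q = 1 := by
      rw [← hψ', ← Category.assoc, hg, Category.assoc, hy, MonObj.comp_one]
    obtain ⟨n, hn⟩ := K395.Pts.exists_of_comp_eq_one hiq g e1
    exact ht.exists_lift_of_mono γ y (n ≫ c) (by rw [Category.assoc, hγ', ← Category.assoc, hn, hg])

/-- A normal subgroup of `N` is normal in `G = N · M` when `M` is central. -/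
theorem isNormalHom_of_cov_mul {G N M H' : Over S} [GrpObj G] [GrpObj N] [GrpObj M] [GrpObj H']
    (i : N ⟶ G) [IsMonHom i] (j : M ⟶ G) (hcen : ∀ {T : Over S} (x : T ⟶ M) (g : T ⟶ G), (x ≫ j) * g = g * (x ≫ j))
    (hcov : Cov ((i ⊗ₘ j) ≫ μ[G])) (l : H' ⟶ N) (hl : AlgGrp.IsNormalHom l) [Mono (l ≫ i)] :
    AlgGrp.IsNormalHom (l ≫ i) := by
  intro T g h
  obtain ⟨T', t, x, ht, hx⟩ := hcov.exists_local g
  have hx' : ((x ≫ fst _ _) ≫ i) * ((x ≫ snd _ _) ≫ j) = t ≫ g := by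
    rw [← hx, K395.Pts.mul_eq, MonObj.comp_mul, MonObj.comp_mul, tensorHom_fst, tensorHom_snd]
    simp only [Category.assoc]
  obtain ⟨n', hn'⟩ := hl T' (x ≫ fst _ _) (t ≫ h)
  refine Exists.imp (fun a ha => ha.symm) (ht.exists_lift_of_mono (l ≫ i) (g * (h ≫ l ≫ i) * g⁻¹) n' ?_)
  rw [MonObj.comp_mul, MonObj.comp_mul, GrpObj.comp_inv, ← hx', _root_.mul_inv_rev]
  have e1 : ((x ≫ snd _ _) ≫ j) * (t ≫ h ≫ l ≫ i) = (t ≫ h ≫ l ≫ i) * ((x ≫ snd _ _) ≫ j) := hcen _ _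
  have e2 : ((x ≫ fst _ _) ≫ i) * ((x ≫ snd _ _) ≫ j) * (t ≫ h ≫ l ≫ i) *
      ((((x ≫ snd _ _) ≫ j))⁻¹ * ((x ≫ fst _ _) ≫ i)⁻¹) =
      ((x ≫ fst _ _) ≫ i) * (t ≫ h ≫ l ≫ i) * ((x ≫ fst _ _) ≫ i)⁻¹ := by
    rw [_root_.mul_assoc ((x ≫ fst _ _) ≫ i), e1]
    simp only [_root_.mul_assoc, mul_inv_cancel_left]
  rw [e2, ← Category.assoc n', ← hn', MonObj.mul_comp, MonObj.mul_comp, GrpObj.inv_comp]
  simp only [Category.assoc]

end K719.ThirdIso
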