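import Groth.Agent.AlgGrp.K719.PhiIsog
import Groth.Agent.SGA7.K564.TorusFactor
import Groth.Agent.AlgGrp.K402.Tori
import Groth.Agent.AlgGrp.K395.CovKit

/-!
# Commutative groups which are extensions of finite groups by tori
-/

set_option autoImplicit false
universe u
open CategoryTheory Limits MonoidalCategory CartesianMonoidalCategory MonObj GrpObj AlgebraicGeometry
open Groth.Agent Groth.Agent.Sga3.H739.Fpqc

namespace K719.TorusFin

/-- A commutative extension of a finite group by a torus receives an isogeny from the product of a finite group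
and the torus. -/
theorem main (k : Type u) [Field k]
    (G : Over (Spec (CommRingCat.of k))) [GrpObj G] [IsCommMonObj G]
    [LocallyOfFiniteType G.hom] [QuasiCompact G.hom]
    (T Q : Over (Spec (CommRingCat.of k))) [GrpObj T] [GrpObj Q] (j : T ⟶ G) (q : G ⟶ Q)
    [IsMonHom j] [IsMonHom q] [Mono j] (hT : Red.IsTorus T) (hker : AlgGrp.IsKernel j q)
    [Flat q.left] [Surjective q.left] [IsFinite Q.hom] :
    ∃ (A T' : Over (Spec (CommRingCat.of k))) (_ : GrpObj A) (_ : GrpObj T') (f : A ⊗ T' ⟶ G) (_ : IsMonHom f),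
      IsFinite A.hom ∧ Red.IsTorus T' ∧ SGA7.IsIsogenyOver f ∧ Flat f.left := by
  have hQft : LocallyOfFiniteType Q.hom := inferInstance
  have hq : Cov q := K395.CovKit.cov_of q
  have hQc : IsCommMonObj Q := PhiIsog.isCommMonObj_of_cov q hq
  obtain ⟨n, hn, hQn⟩ := PhiIsog.exists_pow_eq_one Q
  let s : Spec (CommRingCat.of k) := IsLocalRing.closedPoint k
  have a1 : Surjective (Red.geomPt s) := ⟨fun x =>
    ⟨IsLocalRing.closedPoint (AlgebraicClosure ((Spec (CommRingCat.of k)).residueField s)), Subsingleton.elim _ _⟩⟩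
  have a2 : Flat (Red.geomPt s) := inferInstance
  have a3 : QuasiCompact (Red.geomPt s) := inferInstance
  obtain ⟨hf, hs⟩ := K564.TorusFactor.isFinite_surjective_pow s hT hn
  have hTs : Smooth T.hom := K402.Tori.smooth hT
  have hTq : QuasiCompact T.hom := K402.Tori.quasiCompact hT
  have hTr : IsReduced T.left := Etcore.SmoothRed.isReduced_of_smooth T.hom
  have hTsep : IsSeparated T.hom := Books.AntiAffine.isSeparated_hom T
  have hTc : IsCommMonObj T := PhiIsog.isCommMonObj_of_mono j
  have hpm : IsMonHom ((𝟙 T : T ⟶ T) ^ n) := inferInstance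
  have hcov : Cov ((𝟙 T : T ⟶ T) ^ n) := GugKit.cov_of_surjective _
  obtain ⟨A, gA, a, h1, h2, h3, h4, h5, h6, h7⟩ := PhiIsog.main j q hq hker n hQn hf hcov
  exact ⟨A, T, gA, inferInstance, _, h5, h3, hT, ⟨h6.surj, h7⟩, h6.flat⟩

end K719.TorusFin
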